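import Cfsg.Agent.H994.Fi24.Short

set_option autoImplicit false
set_option maxRecDepth 100000

namespace Cfsg.Agent.H994.Fi24

open Cfsg Cfsg.Spor Cfsg.Agent.SporadicA Cfsg.Agent.SporadicStructure.Co0Matrix
open Cfsg.Agent.CoOneType.CoEval
open Cfsg.Agent.LThreeMB.CTwelveFix (rP g12 repP)
open Cfsg.Agent.SporadicA.GolayBase (pt idx pt_idx idx_pt idx_lt)

theorem dot_dvd {t u : List ℤ} (ht : leechB (lay t) = true) (hu : leechB (lay u) = true) :
    (8 : ℤ) ∣ dotL (lay t) (lay u) := by
  have h := Cfsg.Agent.Leech.Basic.eight_dvd_dotInt (vec_mem_of_leechB ht) (vec_mem_of_leechB hu)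
  rwa [dotInt_vec _ _ (length_lay t).le] at h

/-- the octads -/
theorem oct0 : leechB (lay [0, 2, 2, 2, 2, 2, 2, 0, 0, 0, 0, 0]) = true := by decide +kernel
theorem oct1 : leechB (lay [2, 0, 2, 2, 2, 2, 0, 2, 0, 0, 0, 0]) = true := by decide +kernel
theorem oct2 : leechB (lay [2, 2, 0, 2, 2, 2, 0, 0, 2, 0, 0, 0]) = true := by decide +kernel
theorem oct3 : leechB (lay [2, 2, 2, 0, 2, 2, 0, 0, 0, 2, 0, 0]) = true := by decide +kernel
theorem oct4 : leechB (lay [2, 2, 2, 2, 0, 2, 0, 0, 0, 0, 2, 0]) = true := by decide +kernel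
theorem oct5 : leechB (lay [2, 2, 2, 2, 2, 0, 0, 0, 0, 0, 0, 2]) = true := by decide +kernel

theorem okAll_of {t : List ℤ} (ht : t.length = 12) (h : leechB (lay t) = true) : okAll okS t [] := by
  have d0 := dot_dvd h oct0
  have d1 := dot_dvd h oct1
  have d2 := dot_dvd h oct2
  have d3 := dot_dvd h oct3
  have d4 := dot_dvd h oct4
  have d5 := dot_dvd h oct5
  obtain ⟨a0, a1, a2, a3, a4, a5, a6, a7, a8, a9, a10, a11, rfl⟩ := exists_twelve ht
  have e0 : (8 : ℤ) ∣ 2 * (a1 + a2 + a3 + a4 + a5) + 6 * a6 := by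
    simp only [lay, List.map_cons, List.map_nil, List.getD_cons_zero, List.getD_cons_succ, dotL] at d0
    convert d0 using 1
    ring
  have e1 : (8 : ℤ) ∣ 2 * (a0 + a2 + a3 + a4 + a5) + 6 * a7 := by
    simp only [lay, List.map_cons, List.map_nil, List.getD_cons_zero, List.getD_cons_succ, dotL] at d1
    convert d1 using 1
    ring
  have e2 : (8 : ℤ) ∣ 2 * (a0 + a1 + a3 + a4 + a5) + 6 * a8 := by
    simp only [lay, List.map_cons, List.map_nil, List.getD_cons_zero, List.getD_cons_succ, dotL] at d2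
    convert d2 using 1
    ring
  have e3 : (8 : ℤ) ∣ 2 * (a0 + a1 + a2 + a4 + a5) + 6 * a9 := by
    simp only [lay, List.map_cons, List.map_nil, List.getD_cons_zero, List.getD_cons_succ, dotL] at d3
    convert d3 using 1
    ring
  have e4 : (8 : ℤ) ∣ 2 * (a0 + a1 + a2 + a3 + a5) + 6 * a10 := by
    simp only [lay, List.map_cons, List.map_nil, List.getD_cons_zero, List.getD_cons_succ, dotL] at d4
    convert d4 using 1
    ring
  have e5 : (8 : ℤ) ∣ 2 * (a0 + a1 + a2 + a3 + a4) + 6 * a11 := by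
    simp only [lay, List.map_cons, List.map_nil, List.getD_cons_zero, List.getD_cons_succ, dotL] at d5
    convert d5 using 1
    ring
  clear d0 d1 d2 d3 d4 d5 h ht
  refine ⟨rfl, rfl, rfl, rfl, rfl, rfl, ?_, ?_, ?_, ?_, ?_, ?_, trivial⟩
  · clear e1 e2 e3 e4 e5
    simp only [okS, List.length_cons, List.length_nil, Nat.reduceAdd, Nat.reduceLeDiff, if_false, Nat.reduceSub,
      List.drop_succ_cons, List.drop_zero, List.headD_cons, List.sum_cons, List.sum_nil, List.getD_cons_succ,
      List.getD_cons_zero, beq_iff_eq]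
    omega
  · clear e0 e2 e3 e4 e5
    simp only [okS, List.length_cons, List.length_nil, Nat.reduceAdd, Nat.reduceLeDiff, if_false, Nat.reduceSub,
      List.drop_succ_cons, List.drop_zero, List.headD_cons, List.sum_cons, List.sum_nil, List.getD_cons_succ,
      List.getD_cons_zero, beq_iff_eq]
    omega
  · clear e0 e1 e3 e4 e5
    simp only [okS, List.length_cons, List.length_nil, Nat.reduceAdd, Nat.reduceLeDiff, if_false, Nat.reduceSub,
      List.drop_succ_cons, List.drop_zero, List.headD_cons, List.sum_cons, List.sum_nil, List.getD_cons_succ,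
      List.getD_cons_zero, beq_iff_eq]
    omega
  · clear e0 e1 e2 e4 e5
    simp only [okS, List.length_cons, List.length_nil, Nat.reduceAdd, Nat.reduceLeDiff, if_false, Nat.reduceSub,
      List.drop_succ_cons, List.drop_zero, List.headD_cons, List.sum_cons, List.sum_nil, List.getD_cons_succ,
      List.getD_cons_zero, beq_iff_eq]
    omega
  · clear e0 e1 e2 e3 e5
    simp only [okS, List.length_cons, List.length_nil, Nat.reduceAdd, Nat.reduceLeDiff, if_false, Nat.reduceSub,
      List.drop_succ_cons, List.drop_zero, List.headD_cons, List.sum_cons, List.sum_nil, List.getD_cons_succ,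
      List.getD_cons_zero, beq_iff_eq]
    omega
  · clear e0 e1 e2 e3 e4
    simp only [okS, List.length_cons, List.length_nil, Nat.reduceAdd, Nat.reduceLeDiff, if_false, Nat.reduceSub,
      List.drop_succ_cons, List.drop_zero, List.headD_cons, List.sum_cons, List.sum_nil, List.getD_cons_succ,
      List.getD_cons_zero, beq_iff_eq]
    omega

theorem le_wsum : ∀ (ws t : List ℤ), (∀ w ∈ ws, 1 ≤ w) → t.length = ws.length → ∀ x ∈ t, x * x ≤ wsum ws t
  | [], t, _, h, x, hx => by
    rw [List.length_eq_zero_iff.1 h] at hx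
    exact absurd hx List.not_mem_nil
  | w :: ws, [], _, h, x, hx => absurd hx List.not_mem_nil
  | w :: ws, y :: t, hw, h, x, hx => by
    have h1 := wsum_nonneg ws t (fun w hw' => le_trans (by norm_num) (hw w (List.mem_cons_of_mem _ hw')))
    have h2 := hw w List.mem_cons_self
    have h3 := mul_self_nonneg y
    have h4 : wsum (w :: ws) (y :: t) = w * (y * y) + wsum ws t := rfl
    rw [h4]
    rcases List.mem_cons.1 hx with rfl | hx
    · nlinarith
    · have h5 := le_wsum ws t (fun w hw' => hw w (List.mem_cons_of_mem _ hw')) (by simpa using h) x hx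
      nlinarith

theorem mem_cands {x : ℤ} (h : x * x ≤ 32) (e : Bool) (he : x % 2 = if e then 1 else 0) : x ∈ cands e := by
  have h1 : -5 ≤ x := by nlinarith
  have h2 : x ≤ 5 := by nlinarith
  cases e
  · have h3 : x % 2 = 0 := he
    interval_cases x <;> first | decide | (exfalso; revert h3; decide)
  · have h3 : x % 2 = 1 := he
    interval_cases x <;> first | decide | (exfalso; revert h3; decide)

theorem mem_Lall {t : List ℤ} : t ∈ Lall ↔ t.length = 12 ∧ wsum Ws t = 32 ∧ leechB (lay t) = true := by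
  rw [Lall, List.mem_filter, List.mem_append, mem_enumG _ _ _ Ws_nonneg, mem_enumG _ _ _ Ws_nonneg]
  constructor
  · rintro ⟨(⟨s, h1, h2, h3, h4, h5⟩ | ⟨s, h1, h2, h3, h4, h5⟩), h6⟩
    · have e : t = s := h1
      subst e
      exact ⟨h2, h4, h6⟩
    · have e : t = s := h1
      subst e
      exact ⟨h2, h4, h6⟩
  · rintro ⟨h1, h2, h3⟩
    refine ⟨?_, h3⟩
    have h4 := okAll_of h1 h3
    have h5 := le_wsum Ws t (by decide) h1
    have h6 : ∃ e : Bool, ∀ x ∈ t, x % 2 = if e then 1 else 0 := by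
      obtain ⟨a0, a1, a2, a3, a4, a5, a6, a7, a8, a9, a10, a11, rfl⟩ := exists_twelve h1
      simp only [leechB, Bool.and_eq_true, List.all_eq_true] at h3
      have h7 := h3.1.1.2
      have h8 : ∀ x ∈ [a0, a1, a2, a3, a4, a5, a6, a7, a8, a9, a10, a11], (x - a0 % 2) % 2 = 0 := by
        intro x hx
        have h9 : x ∈ lay [a0, a1, a2, a3, a4, a5, a6, a7, a8, a9, a10, a11] := by
          simp only [List.mem_cons, List.not_mem_nil, or_false] at hx
          simp only [lay, List.map_cons, List.map_nil, List.getD_cons_zero, List.getD_cons_succ, List.mem_cons,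
            List.not_mem_nil, or_false]
          tauto
        have h10 := h7 x h9
        rw [decide_eq_true_eq] at h10
        exact h10
      rcases Int.emod_two_eq_zero_or_one a0 with h9 | h9
      · refine ⟨false, fun x hx => ?_⟩
        have := h8 x hx
        show x % 2 = 0
        omega
      · refine ⟨true, fun x hx => ?_⟩
        have := h8 x hx
        show x % 2 = 1
        omega
    obtain ⟨e, he⟩ := h6
    have h7 : ∀ x ∈ t, x ∈ cands e := fun x hx => mem_cands ((h5 x hx).trans h2.le) e (he x hx)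
    cases e
    · exact Or.inr ⟨t, rfl, h1, h7, h2, h4⟩
    · exact Or.inl ⟨t, rfl, h1, h7, h2, h4⟩

theorem lay_tup {v : leechLattice} (h : g12 • v = v) : vec (lay (tup v)) = (v : GolayPt → ℤ) := by
  have h0 : ∀ i < 24, (v : GolayPt → ℤ) (pt (sg.getD i 0)) = (v : GolayPt → ℤ) (pt i) := by
    intro i hi
    rw [← act_g12 v hi, h]
  have e1 : (v : GolayPt → ℤ) (pt 11) = (v : GolayPt → ℤ) (pt 1) := h0 1 (by norm_num)
  have e2 : (v : GolayPt → ℤ) (pt 6) = (v : GolayPt → ℤ) (pt 11) := h0 11 (by norm_num)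
  have e3 : (v : GolayPt → ℤ) (pt 9) = (v : GolayPt → ℤ) (pt 2) := h0 2 (by norm_num)
  have e4 : (v : GolayPt → ℤ) (pt 22) = (v : GolayPt → ℤ) (pt 9) := h0 9 (by norm_num)
  have e5 : (v : GolayPt → ℤ) (pt 14) = (v : GolayPt → ℤ) (pt 4) := h0 4 (by norm_num)
  have e6 : (v : GolayPt → ℤ) (pt 17) = (v : GolayPt → ℤ) (pt 14) := h0 14 (by norm_num)
  have e7 : (v : GolayPt → ℤ) (pt 7) = (v : GolayPt → ℤ) (pt 5) := h0 5 (by norm_num)
  have e8 : (v : GolayPt → ℤ) (pt 23) = (v : GolayPt → ℤ) (pt 7) := h0 7 (by norm_num)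
  have e9 : (v : GolayPt → ℤ) (pt 18) = (v : GolayPt → ℤ) (pt 8) := h0 8 (by norm_num)
  have e10 : (v : GolayPt → ℤ) (pt 16) = (v : GolayPt → ℤ) (pt 18) := h0 18 (by norm_num)
  have e11 : (v : GolayPt → ℤ) (pt 15) = (v : GolayPt → ℤ) (pt 13) := h0 13 (by norm_num)
  have e12 : (v : GolayPt → ℤ) (pt 19) = (v : GolayPt → ℤ) (pt 15) := h0 15 (by norm_num)
  funext p
  rw [vec_apply]
  conv_rhs => rw [← pt_idx p]
  have hp := idx_lt p
  generalize idx p = i at hp
  generalize (v : GolayPt → ℤ) = x at *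
  interval_cases i
  · rfl
  · rfl
  · rfl
  · rfl
  · rfl
  · rfl
  · exact (e2.trans e1).symm
  · exact e7.symm
  · rfl
  · exact e3.symm
  · rfl
  · exact e1.symm
  · rfl
  · rfl
  · exact e5.symm
  · exact e11.symm
  · exact (e10.trans e9).symm
  · exact (e6.trans e5).symm
  · exact e9.symm
  · exact (e12.trans e11).symm
  · rfl
  · rfl
  · exact (e4.trans e3).symm
  · exact (e8.trans e7).symm

theorem sq_dot (x : GolayPt → ℤ) : sqNorm x = dotInt x x := by
  unfold sqNorm dotInt
  exact Finset.sum_congr rfl fun p _ => by ring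

/-- **The number of fixed vectors of norm 32.** -/
theorem card_short : Nat.card {v : leechLattice // sqNorm (v : GolayPt → ℤ) = 32 ∧ g12 • v = v} = 756 := by
  let f : {v : leechLattice // sqNorm (v : GolayPt → ℤ) = 32 ∧ g12 • v = v} → {t : List ℤ // t ∈ Lall} :=
    fun v => ⟨tup v.1, by
      have h1 := lay_tup v.2.2
      have h2 : (tup (v.1 : GolayPt → ℤ)).length = 12 := rfl
      refine mem_Lall.2 ⟨h2, ?_, ?_⟩
      · rw [← nrm_lay h2, ← dotInt_vec _ _ (length_lay _).le, h1]
        have h3 := v.2.1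
        rw [sq_dot] at h3
        exact h3
      · exact Cfsg.Agent.H843.IMC.LeechConv.leechB_of_mem (length_lay _) (by rw [h1]; exact v.1.2)⟩
  have hf : Function.Bijective f := by
    constructor
    · intro v w h
      have h1 : tup (v.1 : GolayPt → ℤ) = tup (w.1 : GolayPt → ℤ) := congrArg Subtype.val h
      apply Subtype.ext
      apply Subtype.ext
      rw [← lay_tup v.2.2, ← lay_tup w.2.2, h1]
    · rintro ⟨t, ht⟩
      obtain ⟨h1, h2, h3⟩ := mem_Lall.1 ht
      refine ⟨⟨⟨vec (lay t), vec_mem_of_leechB h3⟩, ?_, ?_⟩, Subtype.ext (tup_lay h1)⟩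
      · show sqNorm (vec (lay t)) = 32
        rw [sq_dot, dotInt_vec _ _ (length_lay _).le, nrm_lay h1, h2]
      · apply Subtype.ext
        funext p
        have h4 := act_g12 ⟨vec (lay t), vec_mem_of_leechB h3⟩ (idx_lt p)
        rw [pt_idx] at h4
        rw [h4]
        show vec (lay t) (pt (sg.getD (idx p) 0)) = vec (lay t) p
        rw [vec_apply, vec_apply, idx_pt (sg_lt _ (idx_lt p)), lay_sg _ (idx_lt p)]
  rw [Nat.card_congr (Equiv.ofBijective f hf)]
  have h1 : Nat.card {t : List ℤ // t ∈ Lall} = Nat.card {t : List ℤ // t ∈ Lall.toFinset} :=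
    Nat.card_congr (Equiv.subtypeEquivRight fun t => List.mem_toFinset.symm)
  rw [h1, Nat.card_eq_fintype_card, Fintype.card_coe, List.toFinset_card_of_nodup nodup_Lall, length_Lall]

theorem tr8_g12 : Cfsg.Agent.Co2Type.Mono.tr8 g12 = 48 := by
  unfold Cfsg.Agent.Co2Type.Mono.tr8
  rw [GolayBase.sum_pt]
  have h1 : ∀ i ∈ Finset.range 24, ((g12 • Cfsg.Agent.SporadicStructure.Co0Base.e8 (pt i) : leechLattice) :
      GolayPt → ℤ) (pt i) = if sg.getD i 0 = i then 8 else 0 := by
    intro i hi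
    rw [Finset.mem_range] at hi
    rw [act_g12 _ hi, Cfsg.Agent.SporadicStructure.Co0Base.e8_coe]
    by_cases h : sg.getD i 0 = i
    · rw [if_pos h, h, Pi.single_eq_same]
    · rw [if_neg h, Pi.single_eq_of_ne]
      intro h2
      apply h
      have h3 := congrArg idx h2
      rwa [idx_pt (sg_lt i hi), idx_pt hi] at h3
  rw [Finset.sum_congr rfl h1]
  decide +kernel

end Cfsg.Agent.H994.Fi24
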