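import Cfsg.Agent.H994.Fi24.TrZeta
import Cfsg.Agent.H994.Fi24.Short2
import Cfsg.Agent.H849.FrTwelve
import Cfsg.Agent.LThreeMB.CoOneFin

/-!
# The element of order three of the Monster with centralizer `3.Fi24'` has trace 783 (helper994, for S4910)
-/

set_option autoImplicit false

namespace Cfsg.Agent.H994.Fi24

open Cfsg Cfsg.Spor Cfsg.Agent.LeechMat.Core Cfsg.Agent.MonsterX.KSide Cfsg.Agent.MonsterX.KLift
open Cfsg.Agent.LThreeMBTr Cfsg.Agent.LThreeMB Cfsg.Agent.MonsterX.FrameKS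
open Cfsg.Agent.MonsterU.Lam2 Cfsg.Agent.MonsterU.TwoCls Cfsg.Agent.MonsterU.TwoQ
open Cfsg.Agent.BpSpor.MBigModel
open Cfsg.Agent.LThreeMB.CTwelveFix (g12 cube ne_one fr_g12)
open Subgroup (centralizer mem_centralizer_singleton_iff)

theorem chi_g12 : chi g12 = 6 := by
  rw [chi_tr8, tr8_g12]
  norm_num

theorem cube' : g12 * g12 * g12 = 1 := by
  rw [← cube, pow_succ, pow_two]

section gen

variable {G V P W : Type*} [Group G] [AddCommGroup V] [Module ℚ V]
  [DistribMulAction G V] [SMulCommClass G ℚ V] [Group P] [AddCommGroup W] [Module ℚ W]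
  {M : KS G V P W} {θ : leechLattice → P}

/-- an element of order three inducing `g12` -/
theorem exists_x (L : Lift M θ) : ∃ x ∈ M.K, x * x * x = 1 ∧ Ind M x g12 ∧ x ≠ 1 := by
  obtain ⟨k, hk, hI⟩ := M.onto g12
  have hI' : Ind M k g12 := hI
  have h3 : Ind M (k * k * k) 1 := by
    rw [← cube']
    exact (hI'.mul hI').mul hI'
  obtain ⟨p, hp⟩ := M.mem_ι_of_trivial (k * k * k) (M.K.mul_mem (M.K.mul_mem hk hk) hk) (fun v => by
    have := h3 v
    rwa [one_smul] at this)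
  have h4 : (k * k * k) * (k * k * k) * ((k * k * k) * (k * k * k)) = 1 := by
    rw [hp, ← map_mul, ← map_mul]
    have h5 : p * p * (p * p) = 1 := by
      rcases L.sq p with e | e
      · rw [e, one_mul]
      · rw [e, M.zc_mul]
    rw [h5, map_one]
  have h6 : k * k * k * k * (k * k * k * k) * (k * k * k * k) = 1 := by
    rw [← h4]
    group
  have h7 : Ind M (k * k * k * k) g12 := by
    have h8 : Ind M (k * k * k * k) (g12 * g12 * g12 * g12) := ((hI'.mul hI').mul hI').mul hI'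
    rwa [cube', one_mul] at h8
  refine ⟨k * k * k * k, M.K.mul_mem (M.K.mul_mem (M.K.mul_mem hk hk) hk) hk, h6, h7, ?_⟩
  intro h8
  rw [h8] at h7
  have h9 := Ind_mk_eq h7 (Ind.one M)
  exact ne_one h9

end gen

/-- **[M1]** -/
theorem tr_zeta : ∃ x : MG, orderOf x = 3 ∧ Spor.IsoFi24' (Cfsg.Agent.LThreeMB.XX x) ∧
    Cfsg.Agent.LThreeMBTr.chr Cfsg.Agent.MonsterX.Space.V x = 783 := by
  have hfin := finite
  have hsim := simple
  obtain ⟨x, hxK, h3, hI, hx1⟩ := exists_x Cfsg.Agent.MonsterX.KDone.lft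
  have hord : orderOf x = 3 := by
    have : Fact (Nat.Prime 3) := ⟨Nat.prime_three⟩
    exact orderOf_eq_prime (by rw [pow_succ, pow_two, h3]) hx1
  have hxz : x ∈ centralizer ({zz} : Set MG) := mem_centralizer_singleton_iff.2
    (Cfsg.Agent.MonsterX.KDone.K.z_comm_K x hxK)
  have hpi : pi ⟨x, hxz⟩ = QuotientGroup.mk g12 := KChart.pi_eq LThreeB.Row.cent hI
  refine ⟨x, hord, ?_, ?_⟩
  · exact Cfsg.Agent.H849.FrTwelve.iso_fi chart Cfsg.Agent.LThreeMB.CoOneFin.coOne (x := ⟨x, hxz⟩)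
      (by rw [← Subgroup.orderOf_coe]; exact hord) (by rw [hpi]; exact fr_g12)
  · obtain ⟨α, T, hA⟩ := exists_data hxK hI
    have h := chr_three Cfsg.Agent.MonsterX.KDone.lft TensK.tens h3 cube' fr_g12 hA
    have h2 : Nat.card {v : leechLattice // nrm v = 32 ∧ g12 • v = v} = 756 := card_short
    rw [h, chi_g12, h2]
    norm_num

end Cfsg.Agent.H994.Fi24
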