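import Cfsg.Agent.LThreeMB.CTwelveFix
import Cfsg.Agent.H843.IMC.LeechConv
import Cfsg.Agent.Co2Type.Mono

/-!
# The vectors of norm 32 of the Leech lattice fixed by `g12` (helper994, for S4910)

`card_short` : there are 756 of them (60 of shape `4^2`, 312 of shape `2^8`, 384 of shape `3, 1^23`); `tr8_g12` : the trace is 6.
-/

set_option autoImplicit false
set_option maxRecDepth 100000

namespace Cfsg.Agent.H994.Fi24

open Cfsg Cfsg.Spor Cfsg.Agent.SporadicA Cfsg.Agent.SporadicStructure.Co0Matrix
open Cfsg.Agent.CoOneType.CoEval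
open Cfsg.Agent.LThreeMB.CTwelveFix (rP g12 repP)
open Cfsg.Agent.SporadicA.GolayBase (pt idx pt_idx idx_pt idx_lt)

/-! ### Enumeration of the solutions of `∑ w x ^ 2 = B` -/

def cands (e : Bool) : List ℤ := if e then [-5, -3, -1, 1, 3, 5] else [-4, -2, 0, 2, 4]

/-- the conditions on the initial segments -/
def okAll (ok : List ℤ → Bool) : List ℤ → List ℤ → Prop
  | [], _ => True
  | x :: t, acc => ok (x :: acc) = true ∧ okAll ok t (x :: acc)

def enumG (e : Bool) (ok : List ℤ → Bool) : List ℤ → ℤ → List ℤ → List (List ℤ)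
  | [], B, acc => if B = 0 then [acc.reverse] else []
  | w :: ws, B, acc => (cands e).flatMap fun x =>
      if w * (x * x) ≤ B ∧ ok (x :: acc) = true then enumG e ok ws (B - w * (x * x)) (x :: acc) else []

def wsum : List ℤ → List ℤ → ℤ
  | w :: ws, x :: t => w * (x * x) + wsum ws t
  | _, _ => 0

theorem wsum_nonneg : ∀ (ws t : List ℤ), (∀ w ∈ ws, 0 ≤ w) → 0 ≤ wsum ws t
  | [], _, _ => le_refl _
  | _ :: _, [], _ => le_refl _
  | w :: ws, x :: t, h => by
    have h1 := wsum_nonneg ws t (fun w hw => h w (List.mem_cons_of_mem _ hw))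
    have h2 := mul_nonneg (h w List.mem_cons_self) (mul_self_nonneg x)
    show 0 ≤ w * (x * x) + wsum ws t
    omega

theorem mem_enumG (e : Bool) (ok : List ℤ → Bool) : ∀ (ws : List ℤ), (∀ w ∈ ws, 0 ≤ w) → ∀ (B : ℤ) (acc s : List ℤ),
    s ∈ enumG e ok ws B acc ↔ ∃ t, s = acc.reverse ++ t ∧ t.length = ws.length ∧ (∀ x ∈ t, x ∈ cands e) ∧
      wsum ws t = B ∧ okAll ok t acc
  | [], _, B, acc, s => by
    unfold enumG
    split_ifs with hB
    · rw [List.mem_singleton]
      constructor
      · rintro rfl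
        exact ⟨[], (List.append_nil _).symm, rfl, fun x hx => absurd hx (List.not_mem_nil), hB.symm, trivial⟩
      · rintro ⟨t, h, h1, -⟩
        rw [h, List.length_eq_zero_iff.1 h1, List.append_nil]
    · constructor
      · intro h
        exact absurd h List.not_mem_nil
      · rintro ⟨t, -, -, -, h, -⟩
        exact absurd h.symm hB
  | w :: ws, h, B, acc, s => by
    have ih := mem_enumG e ok ws (fun w hw => h w (List.mem_cons_of_mem _ hw))
    unfold enumG
    rw [List.mem_flatMap]
    constructor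
    · rintro ⟨x, hx, ht⟩
      split_ifs at ht with hB
      · obtain ⟨t, rfl, h1, h2, h3, h4⟩ := (ih _ _ _).1 ht
        refine ⟨x :: t, by simp, by rw [List.length_cons, List.length_cons, h1], ?_, ?_, hB.2, h4⟩
        · intro y hy
          rcases List.mem_cons.1 hy with rfl | hy
          · exact hx
          · exact h2 y hy
        · show w * (x * x) + wsum ws t = B
          rw [h3]
          omega
      · exact absurd ht List.not_mem_nil
    · rintro ⟨t, rfl, h1, h2, h3, h4⟩
      cases t with
      | nil => exact absurd h1 (by simp)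
      | cons x t =>
        have h5 : w * (x * x) + wsum ws t = B := h3
        have h6 := wsum_nonneg ws t (fun w hw => h w (List.mem_cons_of_mem _ hw))
        refine ⟨x, h2 x List.mem_cons_self, ?_⟩
        rw [if_pos ⟨by omega, h4.1⟩]
        exact (ih _ _ _).2 ⟨t, by simp, by simpa using h1, fun y hy => h2 y (List.mem_cons_of_mem _ hy), by omega, h4.2⟩

theorem nodup_enumG (e : Bool) (ok : List ℤ → Bool) : ∀ (ws : List ℤ), (∀ w ∈ ws, 0 ≤ w) → ∀ (B : ℤ) (acc : List ℤ),
    (enumG e ok ws B acc).Nodup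
  | [], _, B, acc => by
    unfold enumG
    split_ifs
    · exact List.nodup_singleton _
    · exact List.nodup_nil
  | w :: ws, h, B, acc => by
    have h' : ∀ w ∈ ws, 0 ≤ w := fun w hw => h w (List.mem_cons_of_mem _ hw)
    unfold enumG
    rw [List.nodup_flatMap]
    constructor
    · intro x _
      split_ifs
      · exact nodup_enumG e ok ws h' _ _
      · exact List.nodup_nil
    · have h1 : (cands e).Nodup := by cases e <;> decide
      refine h1.pairwise_of_forall_ne ?_
      intro x _ y _ hxy t ht ht'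
      dsimp only at ht ht'
      split_ifs at ht with h2
      · split_ifs at ht' with h3
        · obtain ⟨s, rfl, -⟩ := (mem_enumG e ok ws h' _ _ _).1 ht
          obtain ⟨s', hs', -⟩ := (mem_enumG e ok ws h' _ _ _).1 ht'
          rw [List.reverse_cons, List.reverse_cons, List.append_assoc, List.append_assoc] at hs'
          exact hxy (List.cons.inj (List.append_cancel_left hs')).1
        · exact absurd ht' List.not_mem_nil
      · exact absurd ht List.not_mem_nil

/-! ### The fixed vectors -/

/-- the weights -/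
def Ws : List ℤ := [1, 1, 1, 1, 1, 1, 3, 3, 3, 3, 3, 3]

/-- the vector with the given values on the orbits -/
def lay (t : List ℤ) : List ℤ :=
  [0, 7, 6, 1, 8, 9, 7, 9, 10, 6, 2, 7, 3, 11, 8, 11, 10, 8, 10, 11, 4, 5, 6, 9].map fun i => t.getD i 0

/-- the values on the orbits -/
def tup (v : GolayPt → ℤ) : List ℤ := [0, 3, 10, 12, 20, 21, 2, 1, 4, 5, 8, 13].map fun i => v (pt i)

/-- the permutation -/
def sg : List ℕ := [0, 11, 9, 3, 14, 7, 1, 23, 18, 22, 10, 6, 12, 15, 17, 19, 8, 4, 16, 13, 20, 21, 2, 5]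

theorem rows : ∀ i < 24, ∀ k < 24, (rP.getD i []).getD k 0 = if k = sg.getD i 0 then 8 else 0 := by decide +kernel

theorem sg_lt : ∀ i < 24, sg.getD i 0 < 24 := by decide +kernel

theorem act_g12 (v : leechLattice) {i : ℕ} (hi : i < 24) :
    ((g12 • v : leechLattice) : GolayPt → ℤ) (pt i) = (v : GolayPt → ℤ) (pt (sg.getD i 0)) := by
  have h1 : ((g12.1 v : leechLattice) : GolayPt → ℤ) (pt i) = act rP v (pt i) := by rw [repP.act]
  have h2 : ((g12 • v : leechLattice) : GolayPt → ℤ) (pt i) = ((g12.1 v : leechLattice) : GolayPt → ℤ) (pt i) := rfl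
  rw [h2, h1]
  show dotInt v (row rP (pt i)) / 8 = _
  have h3 : dotInt (v : GolayPt → ℤ) (row rP (pt i)) = 8 * (v : GolayPt → ℤ) (pt (sg.getD i 0)) := by
    unfold dotInt
    rw [Finset.sum_eq_single (pt (sg.getD i 0))]
    · rw [row, vec_apply, idx_pt hi, idx_pt (sg_lt i hi), rows i hi _ (sg_lt i hi), if_pos rfl, mul_comm]
    · intro q _ hq
      rw [row, vec_apply, idx_pt hi, rows i hi _ (idx_lt q), if_neg, mul_zero]
      intro h
      apply hq
      rw [← h, pt_idx]
    · intro h
      exact absurd (Finset.mem_univ _) h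
  rw [h3, Int.mul_ediv_cancel_left _ (by norm_num)]

/-- the octad conditions: `b_k = S - a_k` modulo 4 -/
def okS (l : List ℤ) : Bool :=
  if l.length ≤ 6 then true else
    (l.headD 0 - ((l.drop (l.length - 6)).sum - (l.drop (l.length - 6)).getD (12 - l.length) 0)) % 4 == 0

/-- all the fixed vectors -/
def Lall : List (List ℤ) := (enumG true okS Ws 32 [] ++ enumG false okS Ws 32 []).filter fun t => leechB (lay t)

theorem length_odd : ((enumG true okS Ws 32 []).filter fun t => leechB (lay t)).length = 384 := by decide +kernel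

theorem length_even : ((enumG false okS Ws 32 []).filter fun t => leechB (lay t)).length = 372 := by decide +kernel

theorem length_Lall : Lall.length = 756 := by
  rw [Lall, List.filter_append, List.length_append, length_odd, length_even]

theorem Ws_nonneg : ∀ w ∈ Ws, (0 : ℤ) ≤ w := by decide

theorem nodup_Lall : Lall.Nodup := by
  refine List.Nodup.filter _ ?_
  rw [List.nodup_append']
  refine ⟨nodup_enumG _ _ _ Ws_nonneg _ _, nodup_enumG _ _ _ Ws_nonneg _ _, ?_⟩
  intro t h1 h2
  obtain ⟨t1, e1, a1, a2, -⟩ := (mem_enumG true okS Ws Ws_nonneg 32 [] t).1 h1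
  obtain ⟨t2, e2, -, b2, -⟩ := (mem_enumG false okS Ws Ws_nonneg 32 [] t).1 h2
  have e3 : t = t1 := e1
  have e4 : t = t2 := e2
  subst e3
  subst e4
  cases t with
  | nil => exact absurd a1 (by decide)
  | cons x s =>
    have c1 := a2 x List.mem_cons_self
    have c2 := b2 x List.mem_cons_self
    have : ∀ x ∈ cands true, x ∉ cands false := by decide
    exact this x c1 c2

theorem exists_twelve {t : List ℤ} (ht : t.length = 12) : ∃ a0 a1 a2 a3 a4 a5 a6 a7 a8 a9 a10 a11 : ℤ,
    t = [a0, a1, a2, a3, a4, a5, a6, a7, a8, a9, a10, a11] :=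
  match t, ht with
  | [a0, a1, a2, a3, a4, a5, a6, a7, a8, a9, a10, a11], _ => ⟨a0, a1, a2, a3, a4, a5, a6, a7, a8, a9, a10, a11, rfl⟩

theorem length_lay (t : List ℤ) : (lay t).length = 24 := by rw [lay, List.length_map]; rfl

theorem lay_sg {t : List ℤ} : ∀ i < 24, (lay t).getD (sg.getD i 0) 0 = (lay t).getD i 0 := by
  intro i hi
  interval_cases i <;> rfl

theorem nrm_lay {t : List ℤ} (ht : t.length = 12) : dotL (lay t) (lay t) = wsum Ws t := by
  obtain ⟨a0, a1, a2, a3, a4, a5, a6, a7, a8, a9, a10, a11, rfl⟩ := exists_twelve ht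
  simp only [lay, List.map_cons, List.map_nil, List.getD_cons_zero, List.getD_cons_succ, dotL, Ws, wsum]
  ring

theorem tup_lay {t : List ℤ} (ht : t.length = 12) : tup (vec (lay t)) = t := by
  obtain ⟨a0, a1, a2, a3, a4, a5, a6, a7, a8, a9, a10, a11, rfl⟩ := exists_twelve ht
  rfl

end Cfsg.Agent.H994.Fi24
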