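import Cfsg.Agent.H300.SB.ChrBound

/-!
# The trace of an element of order three with fixed rank 12 on the 196884-dimensional space (helper994, for S4910)

`chr_three` : `chr x = (chi A ^ 2 + chi A) / 2 + n / 2 + 64 chi A` for an element `x` of order three of `K` which induces
`A` with `A ^ 3 = 1` and fixed rank 12, `n` the number of fixed vectors of norm 32.
-/

set_option autoImplicit false

namespace Cfsg.Agent.H994.Fi24

open Cfsg Cfsg.Spor Cfsg.Agent.LeechMat.Core Cfsg.Agent.MonsterX.KSide Cfsg.Agent.MonsterX.KLift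
open Cfsg.Agent.LThreeMBTr Cfsg.Agent.LThreeMB
open Cfsg.Agent.MonsterU.Lam2 Cfsg.Agent.MonsterU.TwoCls Cfsg.Agent.MonsterU.TwoQ
open Cfsg.Agent.MonsterU.InvTwo (ι_inj)
open Cfsg.Agent.SporadicStructure.Co0Base (e8 e8_coe)
open Cfsg.Agent.SigZeroCo2.Lin (rep)
open Subgroup (centralizer mem_centralizer_singleton_iff)

/-- a map which is two to one -/
theorem card_two {α β : Type*} (f : α → β) (hs : Function.Surjective f) (i : α → α) (hi : ∀ a, i a ≠ a)
    (hii : ∀ a, f (i a) = f a) (h : ∀ a b, f a = f b → a = b ∨ a = i b) : Nat.card α = 2 * Nat.card β := by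
  let s := Function.surjInv hs
  have hss : ∀ b, f (s b) = b := Function.surjInv_eq hs
  let g : β × Bool → α := fun c => if c.2 then s c.1 else i (s c.1)
  have hg : ∀ c, f (g c) = c.1 := by
    rintro ⟨c, b⟩
    cases b
    · exact (hii _).trans (hss c)
    · exact hss c
  have hb : Function.Bijective g := by
    constructor
    · rintro ⟨c, b⟩ ⟨c', b'⟩ he
      have h1 : c = c' := by
        have h2 := congrArg f he
        rwa [hg, hg] at h2
      subst h1
      cases b <;> cases b'
      · rfl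
      · exact absurd he (hi _)
      · exact absurd he.symm (hi _)
      · rfl
    · intro a
      rcases h a (s (f a)) (hss (f a)).symm with e | e
      · exact ⟨(f a, true), e.symm⟩
      · exact ⟨(f a, false), e.symm⟩
  rw [← Nat.card_congr (Equiv.ofBijective g hb), Nat.card_prod, mul_comm]
  congr 1
  rw [Nat.card_eq_fintype_card, Fintype.card_bool]

section gen

variable {G V P W : Type*} [Group G] [AddCommGroup V] [Module ℚ V]
  [DistribMulAction G V] [SMulCommClass G ℚ V] [Group P] [AddCommGroup W] [Module ℚ W]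
  {M : KS G V P W} {θ : leechLattice → P}

theorem alpha_three (L : Lift M θ) {x : G} (h3 : x * x * x = 1) {A : Co0} {α : P ≃* P} {T : Module.End ℚ W}
    (hA : Acts M.Sh M.lam M.u M.X M.Θ M.ρ x A α T) (q : P) : α (α (α q)) = q := by
  apply ι_inj L
  have h1 : x * x * x * M.ι q = M.ι (α (α (α q))) * (x * x * x) := by
    rw [mul_assoc, conj_ι hA, ← mul_assoc, mul_assoc x x, conj_ι hA, ← mul_assoc, ← mul_assoc, conj_ι hA]
    group
  rw [h3, one_mul, mul_one] at h1
  exact h1.symm

theorem alpha_ne (L : Lift M θ) {x : G} (h3 : x * x * x = 1) {A : Co0} {α : P ≃* P} {T : Module.End ℚ W}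
    (hA : Acts M.Sh M.lam M.u M.X M.Θ M.ρ x A α T) (q : P) : α q ≠ M.zc * q := by
  intro h
  have h1 := alpha_three L h3 hA q
  have h2 : α (α q) = q := by
    conv_lhs => rw [h, map_mul, α_zc L, h, M.zc_zc]
  rw [h2, h] at h1
  exact M.zc_ne' q h1

theorem card_fix (L : Lift M θ) {x : G} (h3 : x * x * x = 1) {A : Co0} {α : P ≃* P} {T : Module.End ℚ W}
    (hA : Acts M.Sh M.lam M.u M.X M.Θ M.ρ x A α T) :
    Nat.card {p : P // α p = p} = 2 * fr (QuotientGroup.mk A : Co1) := by
  unfold fr
  refine card_two (fun p : {p : P // α p = p} =>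
    (⟨clP L p, by rw [mk_smul, ← clP_act L hA, p.2]⟩ : {v : L2 // (QuotientGroup.mk A : Co1) • v = v}))
    ?_ (fun p => ⟨M.zc * p, by rw [map_mul, α_zc L, p.2]⟩) ?_ ?_ ?_
  · rintro ⟨v, hv⟩
    obtain ⟨p, hp⟩ := clP_surjective L v
    rw [mk_smul] at hv
    have h1 : clP L (α p) = clP L p := by rw [clP_act L hA, hp, hv]
    rcases (clP_eq' L).1 h1 with e | e
    · exact ⟨⟨p, e⟩, Subtype.ext hp⟩
    · exact absurd e (alpha_ne L h3 hA p)
  · intro p h
    exact M.zc_ne' p (congrArg Subtype.val h)
  · intro p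
    exact Subtype.ext (clP_zc_mul L _)
  · intro p q h
    rcases (clP_eq' L).1 (congrArg Subtype.val h) with e | e
    · exact Or.inl (Subtype.ext e)
    · exact Or.inr (Subtype.ext e)

/-- the trace on the spin space -/
theorem tr_T (L : Lift M θ) (H : Tens M) {x : G} (h3 : x * x * x = 1) {A : Co0}
    (hA3 : A * A * A = 1) (hfr : fr (QuotientGroup.mk A : Co1) = 2 ^ 12) {α : P ≃* P} {T : Module.End ℚ W}
    (hA : Acts M.Sh M.lam M.u M.X M.Θ M.ρ x A α T) : LinearMap.trace ℚ W T = 64 := by
  classical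
  have hT : ∀ f, T (T (T f)) = f := by
    intro f
    have h2 : x • x • x • M.Θ f (rat (e8 none)) = M.Θ f (rat (e8 none)) := by
      rw [← mul_smul, ← mul_smul, h3, one_smul]
    rw [hA.act_Θ, hA.act_Θ, hA.act_Θ, ← mul_smul, ← mul_smul, hA3, one_smul] at h2
    have h4 : M.Θ (T (T (T f)) - f) (rat (e8 none)) = 0 := by
      rw [map_sub, LinearMap.sub_apply, h2, sub_self]
    exact sub_eq_zero.1 (Θ_inj H h4)
  obtain ⟨hfin, J, _, _, b, hJ, hb⟩ := H
  have hfinP : Finite P := Nat.finite_of_card_ne_zero (by rw [L.card]; norm_num)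
  have : Fintype P := Fintype.ofFinite P
  have h1 : LinearMap.trace ℚ W T ^ 2 = 4096 := by
    have h3' := tr_sq M hb hJ L hA
    have h4 : ((Finset.univ.filter fun p => α p = p).card : ℚ) = 8192 := by
      have h5 := card_fix L h3 hA
      rw [hfr, Nat.card_eq_fintype_card, Fintype.card_subtype] at h5
      rw [h5]
      norm_num
    have h5 : (Finset.univ.filter fun p => α p = M.zc * p) = ∅ := by
      rw [Finset.filter_eq_empty_iff]
      intro p _
      exact alpha_ne L h3 hA p
    rw [h4, h5, Finset.card_empty] at h3'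
    push_cast at h3'
    linarith
  have hfinW : Module.finrank ℚ W = 4096 := by rw [Module.finrank_eq_card_basis b, hJ]
  have hW : Module.Finite ℚ W := Module.Finite.of_basis b
  obtain ⟨T', g1, g2, g3⟩ := exists_inv M hb hA
  have hT2 : T * T = T' := by
    calc T * T = T * T * (T * T') := by rw [g2, mul_one]
      _ = (T * T * T) * T' := by simp only [mul_assoc]
      _ = T' := by
        have : T * T * T = 1 := by
          ext f
          exact hT f
        rw [this, one_mul]
  have hproj : LinearMap.IsProj (Cfsg.Agent.SigZeroCo2.Rank.fix T) ((1 / 3 : ℚ) • (1 + T + T * T)) := by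
    constructor
    · intro v
      rw [Cfsg.Agent.SigZeroCo2.Rank.mem_fix]
      simp only [LinearMap.smul_apply, LinearMap.add_apply, Module.End.one_apply, Module.End.mul_apply, map_smul,
        map_add, hT]
      congr 1
      abel
    · intro v hv
      rw [Cfsg.Agent.SigZeroCo2.Rank.mem_fix] at hv
      simp only [LinearMap.smul_apply, LinearMap.add_apply, Module.End.one_apply, Module.End.mul_apply, hv]
      module
  have h5 := hproj.trace
  rw [map_smul, map_add, map_add, LinearMap.trace_one, hfinW, hT2, g3, smul_eq_mul] at h5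
  have h6 : (LinearMap.trace ℚ W T - 64) * (LinearMap.trace ℚ W T + 64) = 0 := by linarith
  rcases mul_eq_zero.1 h6 with e | e
  · linarith
  · exfalso
    have h7 : LinearMap.trace ℚ W T = -64 := by linarith
    rw [h7] at h5
    have h8 : (3 * Module.finrank ℚ (Cfsg.Agent.SigZeroCo2.Rank.fix T) : ℚ) = 3968 := by
      rw [← h5]; norm_num
    have h9 : 3 * Module.finrank ℚ (Cfsg.Agent.SigZeroCo2.Rank.fix T) = 3968 := by exact_mod_cast h8
    omega

/-- two vectors of norm 32 in the same class -/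
theorem eq_or_neg (L : Lift M θ) {v w : leechLattice} (hv : nrm v = 32) (hw : nrm w = 32) (h : cl v = cl w) :
    v = w ∨ v = -w := by
  obtain ⟨x, hx, hxv⟩ := M.lam_surj v hv
  obtain ⟨y, hy, hyw⟩ := M.lam_surj w hw
  have key : ∀ {x : P} (hx : x ∈ M.Sh) {v : leechLattice} (hxv : v = M.lam x ∨ v = -M.lam x), clP L x = cl v := by
    intro x hx v hxv
    have h1 : clP L x = cl (M.lam x) := by
      rw [← clP_θ L (M.lam x), clP_eq']
      rcases L.lam x hx with e | e
      · exact Or.inl e.symm
      · right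
        rw [e, M.zc_zc]
    rcases hxv with e | e
    · rw [e, h1]
    · rw [e, h1, cl_neg]
  have h1 : clP L x = clP L y := by rw [key hx hxv, key hy hyw, h]
  have h2 : M.lam x = M.lam y := by
    rcases (clP_eq' L).1 h1 with e | e
    · rw [e]
    · rw [e, M.lam_z]
  rw [h2] at hxv
  rcases hxv with e | e <;> rcases hyw with e' | e' <;> rw [e, e']
  · exact Or.inl rfl
  · exact Or.inr (neg_neg _).symm
  · exact Or.inr rfl
  · exact Or.inl rfl

theorem nrm_neg (v : leechLattice) : nrm (-v) = nrm v := by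
  show sqNorm ((-v : leechLattice) : GolayPt → ℤ) = sqNorm (v : GolayPt → ℤ)
  unfold sqNorm
  refine Finset.sum_congr rfl fun p _ => ?_
  show (-(v : GolayPt → ℤ) p) ^ 2 = _
  rw [neg_sq]

theorem ne_neg {v : leechLattice} (hv : nrm v = 32) : -v ≠ v := by
  intro h
  have h1 : ∀ p, (v : GolayPt → ℤ) p = 0 := by
    intro p
    have h2 : -(v : GolayPt → ℤ) p = (v : GolayPt → ℤ) p := congrArg (fun w : leechLattice => (w : GolayPt → ℤ) p) h
    omega
  have h2 : nrm v = 0 := by
    show sqNorm (v : GolayPt → ℤ) = 0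
    unfold sqNorm
    exact Finset.sum_eq_zero fun p _ => by rw [h1 p]; rfl
  rw [h2] at hv
  norm_num at hv

theorem smul_neg_co (A : Co0) (v : leechLattice) : A • (-v) = -(A • v) := map_neg (smulHom A) v

/-- the number of fixed elements of `Sh` -/
theorem card_sh (L : Lift M θ) {x : G} (h3 : x * x * x = 1) {A : Co0} (hA3 : A * A * A = 1) {α : P ≃* P}
    {T : Module.End ℚ W} (hA : Acts M.Sh M.lam M.u M.X M.Θ M.ρ x A α T) :
    Nat.card {p : P // p ∈ M.Sh ∧ α p = p} = Nat.card {v : leechLattice // nrm v = 32 ∧ A • v = v} := by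
  let C : Type := {c : L2 // ∃ v : leechLattice, (nrm v = 32 ∧ A • v = v) ∧ cl v = c}
  have fixv : ∀ v : leechLattice, nrm v = 32 → (A • v = v ∨ A • v = -v) → A • v = v := by
    intro v hv h
    rcases h with h | h
    · exact h
    · exfalso
      have h1 : A • A • A • v = v := by rw [← mul_smul, ← mul_smul, hA3, one_smul]
      rw [h, smul_neg_co, h, neg_neg, h] at h1
      exact ne_neg hv h1
  have key : ∀ x ∈ M.Sh, clP L x = cl (M.lam x) := by
    intro x hx
    rw [← clP_θ L (M.lam x), clP_eq']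
    rcases L.lam x hx with e | e
    · exact Or.inl e.symm
    · right
      rw [e, M.zc_zc]
  have fixp : ∀ p ∈ M.Sh, α p = p → A • M.lam p = M.lam p := by
    intro p hp h
    apply fixv _ (M.lam_norm p hp)
    have h1 := hA.act_lam p hp
    rw [h] at h1
    rcases h1 with e | e
    · exact Or.inl e.symm
    · right
      rw [← neg_eq_iff_eq_neg] at e
      exact e.symm
  have c1 : Nat.card {p : P // p ∈ M.Sh ∧ α p = p} = 2 * Nat.card C := by
    refine card_two (fun p : {p : P // p ∈ M.Sh ∧ α p = p} =>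
      (⟨clP L p, M.lam p, ⟨M.lam_norm _ p.2.1, fixp _ p.2.1 p.2.2⟩, (key _ p.2.1).symm⟩ : C))
      ?_ (fun p => ⟨M.zc * p, M.Sh_z _ p.2.1, by rw [map_mul, α_zc L, p.2.2]⟩) ?_ ?_ ?_
    · rintro ⟨c, v, ⟨hv, hAv⟩, rfl⟩
      obtain ⟨p, hp, hpv⟩ := M.lam_surj v hv
      have h1 : clP L p = cl v := by
        rcases hpv with e | e
        · rw [e, key p hp]
        · rw [e, cl_neg, key p hp]
      have h2 : clP L (α p) = clP L p := by rw [clP_act L hA, h1, smul_cl, hAv]
      rcases (clP_eq' L).1 h2 with e | e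
      · exact ⟨⟨p, hp, e⟩, Subtype.ext h1⟩
      · exact absurd e (alpha_ne L h3 hA p)
    · intro p h
      exact M.zc_ne' p (congrArg Subtype.val h)
    · intro p
      exact Subtype.ext (clP_zc_mul L _)
    · intro p q h
      rcases (clP_eq' L).1 (congrArg Subtype.val h) with e | e
      · exact Or.inl (Subtype.ext e)
      · exact Or.inr (Subtype.ext e)
  have c2 : Nat.card {v : leechLattice // nrm v = 32 ∧ A • v = v} = 2 * Nat.card C := by
    refine card_two (fun v : {v : leechLattice // nrm v = 32 ∧ A • v = v} =>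
      (⟨cl v, v, v.2, rfl⟩ : C)) ?_ (fun v => ⟨-v, by rw [nrm_neg]; exact v.2.1, by rw [smul_neg_co, v.2.2]⟩) ?_ ?_ ?_
    · rintro ⟨c, v, hv, rfl⟩
      exact ⟨⟨v, hv⟩, rfl⟩
    · intro v h
      exact ne_neg v.2.1 (congrArg Subtype.val h)
    · intro v
      exact Subtype.ext (cl_neg _)
    · intro v w h
      rcases eq_or_neg L v.2.1 w.2.1 (congrArg Subtype.val h) with e | e
      · exact Or.inl (Subtype.ext e)
      · exact Or.inr (Subtype.ext e)
  rw [c1, c2]

/-- **The trace of an element of order three with fixed rank 12.** -/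
theorem chr_three (L : Lift M θ) (H : Tens M) {x : G} (h3 : x * x * x = 1) {A : Co0} (hA3 : A * A * A = 1)
    (hfr : fr (QuotientGroup.mk A : Co1) = 2 ^ 12) {α : P ≃* P} {T : Module.End ℚ W}
    (hA : Acts M.Sh M.lam M.u M.X M.Θ M.ρ x A α T) :
    chr V x = (chi A ^ 2 + chi A) / 2 + (Nat.card {v : leechLattice // nrm v = 32 ∧ A • v = v} : ℚ) / 2 +
      64 * chi A := by
  classical
  have h64 := tr_T L H h3 hA3 hfr hA
  have hn := card_sh L h3 hA3 hA
  obtain ⟨hfin, J, _, _, b, hJ, hb⟩ := H
  have hfinP : Finite P := Nat.finite_of_card_ne_zero (by rw [L.card]; norm_num)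
  have : Fintype P := Fintype.ofFinite P
  have hchi : chi (A * A) = chi A := by
    have h2 : A * A = A⁻¹ := by rw [← mul_eq_one_iff_eq_inv]; exact hA3
    rw [h2, chi_inv]
  have hs : ∑ y ∈ Finset.univ.filter (· ∈ M.Sh), 2⁻¹ * M.B (M.X (α y)) (M.X y) =
      (Nat.card {v : leechLattice // nrm v = 32 ∧ A • v = v} : ℚ) / 2 := by
    have h4 : ∀ y ∈ Finset.univ.filter (· ∈ M.Sh), 2⁻¹ * M.B (M.X (α y)) (M.X y) =
        if α y = y then (2⁻¹ : ℚ) else 0 := by
      intro y hy
      have hy' := (Finset.mem_filter.1 hy).2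
      split_ifs with e
      · rw [e, M.B_XX y hy', mul_one]
      · rw [M.B_comm, M.B_XX' y hy' _ (hA.act_sh y hy') e (alpha_ne L h3 hA y), mul_zero]
    rw [Finset.sum_congr rfl h4, ← Finset.sum_filter, Finset.sum_const, nsmul_eq_mul, ← hn, Finset.filter_filter,
      Nat.card_eq_fintype_card, Fintype.card_subtype]
    ring
  rw [chr_eq M hb hA, hs, h64, hchi]
  ring

end gen

end Cfsg.Agent.H994.Fi24
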